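import Cfsg.Agent.H82.J4Cx.Gen

/-!
Centralisers in `H` of an element of `V0` outside `sHat`, or over the first orbit in `sHat`,
normalise `V0`.
-/

set_option autoImplicit false
set_option linter.unusedSectionVars false
set_option linter.style.haveILetI false

namespace H82.J4Cx

open Subgroup Cfsg.Agent.H69.J4 H88.J4Fusion

variable {G : Type*} [Group G] [Finite G]
variable {z : G} {E P N : Subgroup G} {d : Data z E P} (R : Real d)
  {e : ↥(centralizer ({z} : Set G)) →* MulAut ↥Cfsg.Spor.M22}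

theorem normA0_one : R.normA0 (1 : ↥(centralizer ({z} : Set G))) := fun x hx => by
  simpa using hx

theorem normA0_mul {a b : ↥(centralizer ({z} : Set G))} (ha : R.normA0 a) (hb : R.normA0 b) :
    R.normA0 (a * b) := fun x hx => by
  have := hb _ (ha x hx)
  simpa [map_mul, mul_assoc] using this

/-- The elements reached from the blocks. -/
def good (R : Real d) : Set (MulAut (Bar E)) :=
  {x | ∃ k < 77, ∃ n : ↥(centralizer ({z} : Set G)), R.normA0 n ∧ x = d.ρ (rep R k * n)}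

theorem Y_subset_good (o : Outer z E P N e) {y : MulAut (Bar E)} (hy : y ∈ Outer.Y d) :
    y ∈ good R := by
  haveI := R.finite_aut
  rw [← genY_eq R o] at hy
  have hy' : y ∈ Submonoid.closure (Set.range fun i => d.ρ (R.g i)) := by
    rw [← Subgroup.closure_toSubmonoid_of_finite]
    exact hy
  clear hy
  induction hy' using Submonoid.closure_induction_left with
  | one => exact ⟨0, by norm_num, 1, normA0_one R, by rw [rep_zero, one_mul, map_one]⟩
  | mul_left x hx y hy ih =>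
    obtain ⟨i, rfl⟩ := hx
    obtain ⟨k, hk, n, hn, rfl⟩ := ih
    obtain ⟨k', hk', n', hn', he⟩ := exists_step R i hk
    exact ⟨k', hk', n' * n, normA0_mul R hn' hn, by
      rw [← map_mul, ← mul_assoc, he, mul_assoc]⟩

theorem exists_preimage {x : MulAut (Bar E)} (hx : x ∈ R.A0) :
    ∃ t ∈ R.V0, ∃ h : t ∈ centralizer ({z} : Set G), d.ρ ⟨t, h⟩ = x := by
  obtain ⟨i, hi, hix⟩ := List.getElem_of_mem (show R.code x ∈ mQ from R.A0_le_Q hx)
  obtain ⟨w, hw⟩ := R.exists_of_mem_mQ i (q_len ▸ hi)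
  rw [List.getD_eq_getElem (hn := hi), hix] at hw
  have hwx := R.mat_inj hw
  obtain ⟨t, ht, htH, hte⟩ := R.exists_V0_lift (t₀ := R.word w) (hwx ▸ hx)
  exact ⟨t, ht, htH, hte.trans hwx⟩

theorem normA0_of_NV {h : ↥(centralizer ({z} : Set G))} (hn : (h : G) ∈ NV R) : R.normA0 h := by
  refine R.normA0_of_maps fun x hx => ?_
  obtain ⟨t, ht, htH, rfl⟩ := exists_preimage R hx
  obtain ⟨_, h1, -⟩ := (mem_normalizer_iff.1 hn t).1 ht
  rw [← map_mul, ← map_inv, ← map_mul]
  exact h1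

theorem exists_outer (o : Outer z E P N e) :
    ∃ s : ↥(centralizer ({z} : Set G)), d.ρ s ∉ Outer.Y d ∧ R.normA0 s := by
  classical
  haveI := R.finite_aut
  obtain ⟨S, Q, hQS, hQ⟩ := exists_sylow R o
  by_contra hc
  push Not at hc
  have hT : ∀ t (ht : t ∈ (Q : Subgroup G)), d.ρ ⟨t, hQ.le_H ht⟩ ∈ R.Q := fun t ht => by
    refine hQ.linear t _ ht ?_
    by_contra hY
    refine hc _ hY (normA0_of_NV R ?_)
    exact mem_NV_of_placed R o hQ fun x hx =>
      mul_mem (mul_mem ht (R.V0_le hQ hx)) (inv_mem ht)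
  let f : (S : Subgroup ↥(centralizer ({z} : Set G))) →* MulAut (Bar E) :=
    d.ρ.comp (S : Subgroup ↥(centralizer ({z} : Set G))).subtype
  have hrange : f.range ≤ R.Q := by
    rintro _ ⟨⟨t, htS⟩, rfl⟩
    exact hT (t : G) (hQS ▸ ⟨t, htS, rfl⟩)
  have h1 := Subgroup.card_le_of_le hrange
  rw [R.card_Q] at h1
  have hker : Nat.card f.ker ≤ Nat.card E := Nat.card_le_card_of_injective
    (fun a => (⟨((a.1 : ↥(centralizer ({z} : Set G))) : G),
      (d.mem_ker_iff).1 (MonoidHom.mem_ker.1 a.2)⟩ : E))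
    fun a b h => Subtype.ext (Subtype.ext (Subtype.ext
      (congrArg (fun q : E => (q : G)) h)))
  have h2 := f.ker.card_mul_index
  rw [Subgroup.index_ker, R.sylow_card o S] at h2
  rw [d.cardE] at hker
  nlinarith

/-- Every element of `H` is a block word times an element normalising `A0`, modulo `E`. -/
theorem exists_decomp (o : Outer z E P N e) (h : ↥(centralizer ({z} : Set G))) :
    ∃ k < 77, ∃ n : ↥(centralizer ({z} : Set G)), R.normA0 n ∧ d.ρ h = d.ρ (rep R k * n) := by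
  by_cases hh : d.ρ h ∈ Outer.Y d
  · exact Y_subset_good R o hh
  · obtain ⟨s, hs, hsn⟩ := exists_outer R o
    have hsi : d.ρ s⁻¹ ∉ Outer.Y d := fun h' => hs (by
      have := inv_mem h'
      rwa [← map_inv, inv_inv] at this)
    obtain ⟨k, hk, n, hn, e'⟩ := Y_subset_good R o (R.mul_mem_Y o hh hsi)
    refine ⟨k, hk, n * s, normA0_mul R hn hsn, ?_⟩
    rw [← mul_assoc, map_mul _ (rep R k * n), ← e', ← map_mul, inv_mul_cancel_right]

theorem normA0_congr {h h' : ↥(centralizer ({z} : Set G))} (he : d.ρ h = d.ρ h')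
    (hn : R.normA0 h') : R.normA0 h := fun x hx => by rw [he]; exact hn x hx

/-- Centralisers of elements of `V0` outside `E`. -/
theorem cent_outside (o : Outer z E P N e) {t h : G} (ht : t ∈ R.V0) (htE : t ∉ E)
    (hh : h ∈ centralizer ({z} : Set G)) (hc : h * t = t * h) : h ∈ NV R := by
  haveI := R.finite_aut
  obtain ⟨htH, hxA, -⟩ := ht
  set x := d.ρ ⟨t, htH⟩ with hx
  have hx1 : x ≠ 1 := fun e => htE ((d.mem_ker_iff).1 e)
  obtain ⟨k, hk, n, hn, hkn⟩ := exists_decomp R o ⟨h, hh⟩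
  have hcx : d.ρ ⟨h, hh⟩ * x = x * d.ρ ⟨h, hh⟩ := by
    rw [hx, ← map_mul, ← map_mul]
    exact congrArg d.ρ (Subtype.ext hc)
  rcases Nat.eq_zero_or_pos k with rfl | hk0
  · refine mem_NV_of_normA0 R (h := ⟨h, hh⟩) (normA0_congr R hkn ?_)
    rwa [rep_zero, one_mul]
  exfalso
  set a := d.ρ n * x * (d.ρ n)⁻¹ with ha
  have haA : a ∈ R.A0 := maps_of_normA0 R hn x hxA
  have ha1 : a ≠ 1 := fun e => hx1 (conj_eq_one_iff.1 e)
  have hka : d.ρ (rep R k) * a = x * d.ρ (rep R k) := by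
    have h' := hcx
    rw [hkn, map_mul] at h'
    calc d.ρ (rep R k) * a = d.ρ (rep R k) * d.ρ n * x * (d.ρ n)⁻¹ := by rw [ha]; group
      _ = _ := by rw [h']; group
  have hmem : ∀ y ∈ R.A0, y ≠ 1 → R.code y ∈ k2Lit := fun y hy hy1 => by
    rw [k2_eq]
    rcases List.mem_cons.1 (show R.code y ∈ mI :: mK2 from hy) with h0 | h0
    · exact absurd (R.mat_inj (h0.trans R.mat_one.symm)) hy1
    · exact h0
  have hs := (List.all_eq_true.1 sep_inv) k (List.mem_range.2 hk)
  rw [Bool.or_eq_true] at hs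
  rcases hs with h0 | hs
  · exact absurd (Nat.eq_of_beq_eq_true h0) (by omega)
  · have := (List.all_eq_true.1 ((List.all_eq_true.1 hs) _ (hmem a haA ha1))) _ (hmem x hxA hx1)
    rw [Bool.not_eq_true', beq_eq_false_iff_ne, ← code_rep R hk, ← R.mat_mul, ← R.mat_mul, hka] at this
    exact this rfl

/-- Centralisers of elements over the first orbit. -/
theorem cent_orb0 (o : Outer z E P N e) {t h : G} (htE : t ∈ E) {v : ℕ} (hv : v ∈ orb0)
    (hvt : R.φ v = QuotientGroup.mk ⟨t, htE⟩)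
    (hnot : ∀ n : ↥(centralizer ({z} : Set G)), R.normA0 n → ∀ w ∈ orb1,
      d.ρ n (R.φ v) ≠ R.φ w)
    (hh : h ∈ centralizer ({z} : Set G)) (hc : h * t = t * h) : h ∈ NV R := by
  haveI := R.finite_aut
  obtain ⟨k, hk, n, hn, hkn⟩ := exists_decomp R o ⟨h, hh⟩
  rcases Nat.eq_zero_or_pos k with rfl | hk0
  · refine mem_NV_of_normA0 R (h := ⟨h, hh⟩) (normA0_congr R hkn ?_)
    rwa [rep_zero, one_mul]
  exfalso
  obtain ⟨hvS, hv0⟩ := orb_sVec (List.mem_cons_self ..) hv
  have hfix : d.ρ ⟨h, hh⟩ (R.φ v) = R.φ v := by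
    rw [hvt, d.ρ_mk]
    refine congrArg _ (Subtype.ext ?_)
    show h * t * h⁻¹ = t
    rw [hc, mul_inv_cancel_right]
  obtain ⟨w, hw, hwe⟩ := (R.fixed_A0 _).1 (R.fixed_apply hn ((R.fixed_A0 _).2 ⟨v, hvS, rfl⟩))
  have hw0 : w ≠ 0 := fun e => hv0 (R.φ_inj (sVec_bound hvS) (by norm_num) (by
    rw [R.φ_zero]
    rw [e, R.φ_zero] at hwe
    exact (d.ρ n).injective (by rw [← hwe, map_one])))
  have horb : w ∈ orb0 := by
    have h' := (List.all_eq_true.1 orb_cover) w hw
    simp only [Bool.or_eq_true, List.contains_iff_mem] at h'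
    rcases h' with (h' | h') | h'
    · exact absurd (Nat.eq_of_beq_eq_true h') hw0
    · exact h'
    · exact absurd hwe.symm (hnot n hn w h')
  have he : R.φ (ap (bM.getD k []) w) = R.φ v := by
    rw [← code_rep R hk, ← R.apply, hwe, ← MulAut.mul_apply, ← map_mul, ← hkn, hfix]
  have hlt : ap (bM.getD k []) w < 4096 := by
    rw [← code_rep R hk]; exact ap_lt (n := 12) (R.mat_lt _) w
  have hs := (List.all_eq_true.1 sep_vec) k (List.mem_range.2 hk)
  rw [Bool.or_eq_true] at hs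
  rcases hs with h0 | hs
  · exact absurd (Nat.eq_of_beq_eq_true h0) (by omega)
  · have := (List.all_eq_true.1 hs) w horb
    rw [R.φ_inj hlt (sVec_bound hvS) he] at this
    simp [hvS] at this

end H82.J4Cx
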