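import Cfsg.Agent.H69.J4.Model
import Cfsg.Agent.H82.J4Cx.Data

/-!
Kernel checks of the block data: Schreier closure, uniqueness of the block of an involution and of
a vector of the first orbit, and elements of orders `11`, `5`, `7` and a subgroup of order `27`.
-/

set_option autoImplicit false
set_option maxRecDepth 100000

namespace H82.J4Cx

open Cfsg.Agent.H69.J4

/-- The twenty-seven products. -/
def m27 : List (List ℕ) :=
  (([mI, mW, mm mW mW].flatMap fun w => [mI, evalM (oWords.getD 1 []),
    mm (evalM (oWords.getD 1 [])) (evalM (oWords.getD 1 []))].map (mm w)).flatMap fun x =>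
    [mI, evalM (oWords.getD 2 []), mm (evalM (oWords.getD 2 [])) (evalM (oWords.getD 2 []))].map (mm x))

theorem k2_eq : k2Lit = mK2 := by decide +kernel

theorem len_ok : (Nat.beq bW.length 77 && Nat.beq bM.length 77 && Nat.beq bI.length 77 &&
    Nat.beq bPi.length 308 && Nat.beq bN.length 308) = true := by decide +kernel

theorem word_ok : ((List.range 77).all fun k => evalM (bW.getD k []) == bM.getD k [] &&
    mm (bI.getD k []) (bM.getD k []) == mI && mm (bI.getD k []) mI == bI.getD k []) = true := by
  decide +kernel

theorem first_ok : bW.getD 0 [] = [] := by decide +kernel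

theorem pi_ok : (bPi.all fun k => Nat.blt k 77) = true := by decide +kernel

theorem schreier_ok : ((List.range 308).all fun j =>
    bN.getD j [] == mm (bI.getD (bPi.getD j 0) []) (mm (letter (j / 77)) (bM.getD (j % 77) []))) =
      true := by decide +kernel

theorem norm_ok : (bN.all fun n => k2Lit.all fun m => k2Lit.any fun m' => mm n m == mm m' n) =
    true := by decide +kernel

theorem sep_inv : ((List.range 77).all fun k => Nat.beq k 0 ||
    k2Lit.all fun a => k2Lit.all fun a' => !(mm (bM.getD k []) a == mm a' (bM.getD k []))) = true := by
  decide +kernel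

theorem sep_vec : ((List.range 77).all fun k => Nat.beq k 0 ||
    orb0.all fun v => !sVec.contains (ap (bM.getD k []) v)) = true := by decide +kernel

theorem m27_ok : ((m27.all fun a => m27.all fun b => m27.contains (mm a b)) && m27.contains mI &&
    Nat.beq m27.length 27 && (List.range 27).all fun i => (List.range i).all fun j =>
      !(m27.getD i [] == m27.getD j [])) = true := by decide +kernel

/-- The powers of a matrix. -/
def mpow (A : List ℕ) : ℕ → List ℕ
  | 0 => mI
  | n + 1 => mm A (mpow A n)

theorem ord_ok : (mpow mB 11 == mI && !(mB == mI) && mpow mC 5 == mI && !(mC == mI) &&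
    mpow (evalM (oWords.getD 0 [])) 7 == mI && !(evalM (oWords.getD 0 []) == mI)) = true := by
  decide +kernel

end H82.J4Cx
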