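import Cfsg.Agent.H88.J4Fusion.Orbit
import Cfsg.Agent.H33.FiLocal.Count

/-!
In a simple group of `J₄` type every element of `sHat` over the second orbit is conjugate to `z`.
The only other arithmetic possibility is a class of 961 conjugates in `V0`; then a subgroup of order
961 would act regularly on it and its norm map would be constant on a generating set.
-/

set_option autoImplicit false
set_option maxHeartbeats 400000
set_option linter.unusedSectionVars false
set_option linter.style.haveILetI false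

namespace H82.J4Cx

open Subgroup Cfsg.Agent.H69.J4 H88.J4Fusion

theorem sizes_two : ∀ a ∈ [0, 36], ∀ k < 9,
    1 + a + 15 * (16 * k) ∣ ∏ i : Fin 11, (2 ^ 11 - 2 ^ (i : ℕ)) → a = 0 ∧ (k = 0 ∨ k = 4) := by
  decide +kernel

variable {G : Type*} [Group G] [Finite G]
variable {z : G} {E P N : Subgroup G} {d : Data z E P} (R : Real d)
  {e : ↥(centralizer ({z} : Set G)) →* MulAut ↥Cfsg.Spor.M22}

theorem zO_le_closure {v : G} (hv : v ∈ zO R) : v ∈ closure (zO R) := subset_closure hv

theorem closure_conj {n v : G} (hn : n ∈ NV R) (hv : v ∈ closure (zO R)) :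
    n * v * n⁻¹ ∈ closure (zO R) := by
  have h := mem_map_of_mem (MulAut.conj n).toMonoidHom hv
  rw [MonoidHom.map_closure] at h
  refine closure_mono ?_ h
  rintro _ ⟨w, hw, rfl⟩
  exact zO_conj R hn hw

theorem saturated {o : List ℕ} (ho : o ∈ [orb0, orb1]) {a b : G} (ha : a ∈ lifts R o)
    (hb : b ∈ lifts R o) (haU : a ∈ closure (zO R)) : b ∈ closure (zO R) := by
  obtain ⟨haE, v, hv, hva⟩ := ha
  obtain ⟨hbE, w, hw, hwb⟩ := hb
  obtain ⟨h1, n1, e1⟩ := exists_mover R ho v hv
  obtain ⟨h2, n2, e2⟩ := exists_mover R ho w hw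
  have hkN : ((h2 * h1⁻¹ : ↥(centralizer ({z} : Set G))) : G) ∈ NV R := mul_mem n2 (inv_mem n1)
  have he : d.ρ (h2 * h1⁻¹) (R.φ v) = R.φ w := by
    rw [map_mul, map_inv, MulAut.mul_apply, ← e1, MulAut.inv_apply_self, e2]
  rw [hva, hwb, d.ρ_mk, d.mk_eq_iff] at he
  have hmem := closure_conj R hkN haU
  rcases he with he | he <;> change b = _ at he <;> rw [he]
  · exact hmem
  · exact mul_mem hmem (subset_closure (z_mem_zO R))

/-- The conjugates of `z` generate `V0` if there are 961 of them. -/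
theorem closure_eq (_o : Outer z E P N e) (h961 : Nat.card (zO R) = 961)
    (hout : ∀ x ∈ R.A0, x ≠ 1 → (part R x).Nonempty) : closure (zO R) = R.V0 := by
  classical
  haveI := R.finite_aut
  set U := closure (zO R) with hU
  have hUV : U ≤ R.V0 := (closure_le _).2 fun v hv => hv.1
  have h0 : (lifts R orb0).ncard = 36 := by
    rw [card_over R (List.mem_cons_self ..) orb_nodup.1, orb_nodup.2.2.1]
  have h1 : (lifts R orb1).ncard = 90 := by
    rw [card_over R (by simp) orb_nodup.2.1, orb_nodup.2.2.2]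
  have hdis : Disjoint (lifts R orb0) (lifts R orb1) := by
    rw [Set.disjoint_left]
    rintro a ⟨ha, v, hv, hva⟩ ⟨ha', w, hw, hwa⟩
    have he : v = w := R.φ_inj (sVec_bound (orb_sVec (List.mem_cons_self ..) hv).1)
      (sVec_bound (orb_sVec (o := orb1) (by simp) hw).1) (hva.trans hwa.symm)
    have := (List.all_eq_true.1 orb_excl) w hw
    simp [← he, hv] at this
  -- the elements of `sHat` are `1`, `z` and the two families
  have hcover : ∀ s ∈ R.sHat, s = 1 ∨ s = z ∨ s ∈ lifts R orb0 ∪ lifts R orb1 := by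
    rintro s ⟨hsE, hs⟩
    obtain ⟨v, hv, hvs⟩ := (R.fixed_A0 _).1 hs
    have h := (List.all_eq_true.1 orb_cover) v hv
    simp only [Bool.or_eq_true, List.contains_iff_mem] at h
    rcases h with (h | h) | h
    · rw [Nat.eq_of_beq_eq_true h, R.φ_zero] at hvs
      rcases (d.mk_eq_one).1 hvs.symm with e | e
      exacts [Or.inl e, Or.inr (Or.inl e)]
    · exact Or.inr (Or.inr (Or.inl ⟨hsE, v, h, hvs⟩))
    · exact Or.inr (Or.inr (Or.inr ⟨hsE, v, h, hvs⟩))
  set A : Subgroup G := U ⊓ R.sHat with hA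
  have hbig : 61 ≤ Nat.card A := by
    let f : ↥U →* MulAut (Bar E) := d.ρ.comp (Subgroup.inclusion
      (hUV.trans fun t ht => ht.1) : ↥U →* ↥(centralizer ({z} : Set G)))
    have hrange : f.range ≤ R.A0 := by
      rintro _ ⟨u, rfl⟩
      exact (hUV u.2).2.1
    have hr := Subgroup.card_le_of_le hrange
    rw [R.card_A0] at hr
    have hk : Nat.card f.ker ≤ Nat.card A := Nat.card_le_card_of_injective
      (fun u => (⟨(u.1 : G), u.1.2, R.V0_E (hUV u.1.2) ((d.mem_ker_iff).1
        (MonoidHom.mem_ker.1 u.2))⟩ : A))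
      fun a b h => Subtype.ext (Subtype.ext (congrArg (fun q : A => (q : G)) h))
    have hm := f.ker.card_mul_index
    rw [Subgroup.index_ker] at hm
    have h9 : 961 ≤ Nat.card U := by
      rw [← h961]
      exact Nat.card_le_card_of_injective (fun v => (⟨v.1, subset_closure v.2⟩ : U))
        fun a b h => Subtype.ext (congrArg (fun q : U => (q : G)) h)
    nlinarith
  have hsU : R.sHat ≤ U := by
    by_contra hle
    have hno : ∀ o ∈ [orb0, orb1], (∃ b ∈ lifts R o, b ∉ U) → ∀ a ∈ lifts R o, a ∉ U :=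
      fun o ho ⟨b, hb, hbU⟩ a ha haU => hbU (saturated R ho ha hb haU)
    obtain ⟨s, hs, hsn⟩ := SetLike.not_le_iff_exists.1 hle
    have hsub : ∃ o ∈ [orb0, orb1], ∀ a ∈ A, a = 1 ∨ a = z ∨ a ∈ lifts R o := by
      rcases hcover s hs with e | e | e | e
      · exact absurd (e ▸ one_mem U) hsn
      · exact absurd (e ▸ subset_closure (z_mem_zO R)) hsn
      · refine ⟨orb1, by simp, fun a ha => ?_⟩
        rcases hcover a ha.2 with h | h | h | h
        exacts [Or.inl h, Or.inr (Or.inl h),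
          absurd ha.1 (hno orb0 (List.mem_cons_self ..) ⟨s, e, hsn⟩ a h), Or.inr (Or.inr h)]
      · refine ⟨orb0, List.mem_cons_self .., fun a ha => ?_⟩
        rcases hcover a ha.2 with h | h | h | h
        exacts [Or.inl h, Or.inr (Or.inl h), Or.inr (Or.inr h),
          absurd ha.1 (hno orb1 (by simp) ⟨s, e, hsn⟩ a h)]
    obtain ⟨ob, hob, hsub⟩ := hsub
    have hpow : Nat.card A ∣ 128 := R.card_sHat ▸ Subgroup.card_dvd_of_le inf_le_right
    have h128 : Nat.card A ≠ 128 := fun h => hsn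
      (((Subgroup.eq_of_le_of_card_ge (inf_le_right : A ≤ R.sHat)
        (by rw [h, R.card_sHat])).symm ▸ hs).1)
    have h64 : Nat.card A = 64 := by
      have hlt : Nat.card A ≤ 128 := Nat.le_of_dvd (by norm_num) hpow
      interval_cases (Nat.card A) <;> omega
    by_cases hex : ∃ a ∈ A, a ∈ lifts R ob
    · obtain ⟨a, ha, hao⟩ := hex
      have hfull : ∀ b ∈ lifts R ob, b ∈ A := fun b hb =>
        ⟨saturated R hob hao hb ha.1, (over_mem_sHat R hob hb).1⟩
      have hset : (A : Set G) = lifts R ob ∪ {1, z} := by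
        ext x
        refine ⟨fun hx => ?_, ?_⟩
        · rcases hsub x hx with h | h | h
          exacts [Or.inr (Or.inl h), Or.inr (Or.inr h), Or.inl h]
        · rintro (h | h | h)
          exacts [hfull x h, h ▸ one_mem A, h ▸ ⟨subset_closure (z_mem_zO R), R.z_mem_sHat⟩]
      have hd2 : Disjoint (lifts R ob) ({1, z} : Set G) := by
        rw [Set.disjoint_left]
        rintro x hx (h | h)
        exacts [(over_mem_sHat R hob hx).2.1 h, (over_mem_sHat R hob hx).2.2 h]
      have hc : Nat.card A = (lifts R ob).ncard + 2 := by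
        show Nat.card (A : Set G) = _
        rw [Nat.card_coe_set_eq, hset, Set.ncard_union_eq hd2, Set.ncard_pair d.L.z_ne_one.symm]
      simp only [List.mem_cons, List.not_mem_nil, or_false] at hob
      rcases hob with rfl | rfl <;> omega
    · push Not at hex
      have hset : (A : Set G) ⊆ {1, z} := fun x hx => by
        rcases hsub x hx with h | h | h
        exacts [Or.inl h, Or.inr h, absurd h (hex x hx)]
      have hc := Set.ncard_le_ncard hset (Set.toFinite _)
      rw [Set.ncard_pair d.L.z_ne_one.symm, ← Nat.card_coe_set_eq] at hc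
      change Nat.card A ≤ 2 at hc
      omega
  refine le_antisymm hUV fun t ht => ?_
  obtain ⟨htH, htA, -⟩ := id ht
  rcases eq_or_ne (d.ρ ⟨t, htH⟩) 1 with hx | hx
  · exact hsU (R.V0_E ht ((d.mem_ker_iff).1 hx))
  · obtain ⟨u, hu, huH, hux⟩ := hout _ htA hx
    have huU : u ∈ U := subset_closure hu
    have hE : u⁻¹ * t ∈ E := (d.mem_ker_iff (h := (⟨u, huH⟩)⁻¹ * ⟨t, htH⟩)).1 (by
      rw [map_mul, map_inv, hux, inv_mul_cancel])
    have := U.mul_mem huU (hsU (R.V0_E (mul_mem (inv_mem hu.1) ht) hE))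
    rwa [mul_inv_cancel_left] at this

/-- There are not 961 conjugates of `z` in `V0`. -/
theorem card_ne (o : Outer z E P N e) (hout : ∀ x ∈ R.A0, x ≠ 1 → (part R x).Nonempty) :
    Nat.card (zO R) ≠ 961 := by
  classical
  intro h961
  haveI := R.finite_aut
  haveI : Fact (Nat.Prime 31) := ⟨by norm_num⟩
  haveI : Fact (Nat.Prime 2) := ⟨Nat.prime_two⟩
  have hgen := closure_eq R o h961 hout
  have hset : ((fun m => m * z * m⁻¹) '' ((NV R : Subgroup G) : Set G)) = zO R := by
    ext v
    constructor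
    · rintro ⟨m, hm, rfl⟩; exact zO_conj R hm (z_mem_zO R)
    · rintro ⟨hv, g, rfl⟩
      obtain ⟨n, hn, hne⟩ := burnside R o hv
      exact ⟨n, hn, hne⟩
  have hcard := H33.FiLocal.card_eq_orbit_mul (M := NV R) z
  rw [hset, ← Nat.card_coe_set_eq, h961] at hcard
  obtain ⟨R'⟩ : Nonempty (Sylow 31 ↥(NV R)) := inferInstance
  set W : Subgroup G := (R' : Subgroup ↥(NV R)).map (NV R).subtype with hW
  have hWN : W ≤ NV R := map_subtype_le _
  have hWp : IsPGroup 31 W := R'.isPGroup'.map _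
  have hWc : Nat.card W = 31 ^ (Nat.card ↥(NV R)).factorization 31 := by
    rw [hW, card_map_of_injective (NV R).subtype_injective, R'.card_eq_multiplicity]
  have hW961 : 961 ≤ Nat.card W := by
    rw [hWc, show (961 : ℕ) = 31 ^ 2 by norm_num]
    exact Nat.pow_le_pow_right (by norm_num) (((show Nat.Prime 31 by norm_num).pow_dvd_iff_le_factorization
      Nat.card_pos.ne').1 (hcard ▸ Dvd.intro _ rfl))
  have hWz : Nat.card ↥(W ⊓ centralizer ({z} : Set G)) = 1 := by
    obtain ⟨k, hk⟩ := IsPGroup.iff_card.1 (hWp.to_le (inf_le_left : W ⊓ centralizer ({z} : Set G) ≤ W))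
    have hd : 31 ^ k ∣ Nat.card ↥(centralizer ({z} : Set G)) :=
      hk ▸ Subgroup.card_dvd_of_le inf_le_right
    have hH : Nat.card ↥(centralizer ({z} : Set G)) = 2 ^ 21 * 10395 := by
      rw [← Subgroup.card_mul_index d.ρ.ker, Subgroup.index_ker, o.card_range d, d.ker_eq,
        Nat.card_congr (subgroupOfEquivOfLe d.L.le_H).toEquiv, d.cardE]
      norm_num
    rw [hk]
    rcases Nat.eq_zero_or_pos k with rfl | hk0
    · rfl
    · exfalso
      rw [hH] at hd
      have := (dvd_pow_self 31 (Nat.pos_iff_ne_zero.1 hk0)).trans hd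
      norm_num at this
  have horb := H33.FiLocal.card_eq_orbit_mul (M := W) z
  rw [hWz, mul_one] at horb
  have hfull : ((fun m => m * z * m⁻¹) '' (W : Set G)) = zO R := by
    refine Set.eq_of_subset_of_ncard_le ?_ ?_ (Set.toFinite _)
    · rintro _ ⟨m, hm, rfl⟩; exact zO_conj R (hWN hm) (z_mem_zO R)
    · rw [← horb, ← Nat.card_coe_set_eq, h961]; exact hW961
  letI : CommGroup R.V0 :=
    { (inferInstance : Group R.V0) with mul_comm := R.V0_elementary.1.1.1 }
  letI : Fintype W := Fintype.ofFinite W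
  let c : W → R.V0 →* R.V0 := fun w =>
    { toFun := fun u => ⟨w * u * (w : G)⁻¹, (mem_normalizer_iff.1 (hWN w.2) u).1 u.2⟩
      map_one' := Subtype.ext (by simp)
      map_mul' := fun u v => Subtype.ext (by simp [mul_assoc]) }
  let π : R.V0 →* R.V0 :=
    { toFun := fun u => ∏ w, c w u
      map_one' := by simp
      map_mul' := fun u v => by simp [Finset.prod_mul_distrib] }
  have hinv : ∀ (w₀ : W) (u : R.V0), π (c w₀ u) = π u := fun w₀ u =>
    Fintype.prod_equiv (Equiv.mulRight w₀) _ _ fun w => Subtype.ext (by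
      show (w : G) * ((w₀ : G) * u * (w₀ : G)⁻¹) * (w : G)⁻¹ =
        ((w * w₀ : W) : G) * u * ((w * w₀ : W) : G)⁻¹
      rw [Subgroup.coe_mul]
      group)
  obtain ⟨v, hv, hv1⟩ : ∃ v : R.V0, (∀ w, c w v = v) ∧ v ≠ 1 := by
    letI : MulAction W R.V0 :=
      { smul := fun w u => c w u
        one_smul := fun u => Subtype.ext (show ((1 : W) : G) * u * ((1 : W) : G)⁻¹ = u by simp)
        mul_smul := fun a b u => Subtype.ext (show ((a * b : W) : G) * u * ((a * b : W) : G)⁻¹ =
          a * (b * u * (b : G)⁻¹) * (a : G)⁻¹ by simp [mul_assoc]) }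
    have hmod := hWp.card_modEq_card_fixedPoints R.V0
    rw [R.card_V0] at hmod
    by_contra hall
    push Not at hall
    have h1 : Nat.card (MulAction.fixedPoints W R.V0) = 1 := Nat.card_eq_one_iff_unique.2
      ⟨⟨fun a b => Subtype.ext ((hall _ a.2).trans (hall _ b.2).symm)⟩,
        ⟨⟨1, fun w => (c w).map_one⟩⟩⟩
    rw [h1] at hmod
    exact absurd hmod (by decide)
  have hπv : π v = v := by
    show ∏ w, c w v = v
    rw [Finset.prod_congr rfl (fun w _ => hv w), Finset.prod_const, Finset.card_univ]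
    have hodd : Odd (Fintype.card W) := by
      rw [← Nat.card_eq_fintype_card, hWc]
      exact Odd.pow (by decide)
    obtain ⟨k, hk⟩ := hodd
    have h2 : v ^ 2 = 1 := Subtype.ext (by
      show (v : G) ^ 2 = 1
      rw [pow_two]; exact R.V0_sq v.2)
    rw [hk, pow_succ, pow_mul, h2, one_pow, one_mul]
  set zV : R.V0 := ⟨z, z_mem_V0 R⟩
  have hzO : ∀ u : R.V0, (u : G) ∈ zO R → π u = π zV := by
    intro u hu
    rw [← hfull] at hu
    obtain ⟨m, hm, hmu⟩ := hu
    rw [show u = c ⟨m, hm⟩ zV from Subtype.ext hmu.symm, hinv]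
  have hπz : π zV ≠ 1 := by
    intro h
    have hker : ∀ x (hx : x ∈ closure (zO R)), ∀ hxV : x ∈ R.V0, π ⟨x, hxV⟩ = 1 := by
      intro x hx
      induction hx using closure_induction with
      | mem x hx => exact fun hxV => by rw [hzO ⟨x, hxV⟩ hx, h]
      | one => exact fun _ => map_one π
      | mul x y hx hy ihx ihy =>
        intro hxy
        rw [show (⟨x * y, hxy⟩ : R.V0) = ⟨x, hgen.le hx⟩ * ⟨y, hgen.le hy⟩ from rfl, map_mul,
          ihx, ihy, one_mul]
      | inv x hx ihx =>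
        intro hxi
        rw [show (⟨x⁻¹, hxi⟩ : R.V0) = (⟨x, hgen.le hx⟩)⁻¹ from rfl, map_inv, ihx, inv_one]
    exact hv1 (by rw [← hπv]; exact hker v (hgen.ge v.2) v.2)
  obtain ⟨f, hfE, hfs⟩ : ∃ f ∈ E, f ∉ R.sHat := by
    by_contra hall
    push Not at hall
    have := Subgroup.card_le_of_le hall
    rw [d.cardE, R.card_sHat] at this
    norm_num at this
  obtain ⟨s, hs, hsf⟩ : ∃ s ∈ R.sHat, s * f ≠ f * s := by
    by_contra hall
    push Not at hall
    exact hfs (R.sHat_centralizer hfE hall)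
  have hfN : f ∈ NV R := E_le_NV R hfE
  have hkey : ∀ x (hx : x ∈ closure (zO R)), ∀ (hxV : x ∈ R.V0) (hy : f * x * f⁻¹ ∈ R.V0),
      π ⟨f * x * f⁻¹, hy⟩ = π ⟨x, hxV⟩ := by
    intro x hx
    induction hx using closure_induction with
    | mem x hx =>
      exact fun hxV hy => by rw [hzO ⟨_, hy⟩ (zO_conj R hfN hx), hzO ⟨x, hxV⟩ hx]
    | one =>
      intro hxV hy
      exact congrArg π (Subtype.ext (by simp))
    | mul x y hx hy ihx ihy =>
      intro hxy h'
      have hx' := (mem_normalizer_iff.1 hfN x).1 (hgen.le hx)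
      have hy' := (mem_normalizer_iff.1 hfN y).1 (hgen.le hy)
      rw [show (⟨f * (x * y) * f⁻¹, h'⟩ : R.V0) = ⟨_, hx'⟩ * ⟨_, hy'⟩ from
          Subtype.ext (by simp [mul_assoc]),
        show (⟨x * y, hxy⟩ : R.V0) = ⟨x, hgen.le hx⟩ * ⟨y, hgen.le hy⟩ from rfl, map_mul, map_mul,
        ihx (hgen.le hx) hx', ihy (hgen.le hy) hy']
    | inv x hx ihx =>
      intro hxi h'
      have hx' := (mem_normalizer_iff.1 hfN x).1 (hgen.le hx)
      rw [show (⟨f * x⁻¹ * f⁻¹, h'⟩ : R.V0) = (⟨_, hx'⟩)⁻¹ from Subtype.ext (by simp [mul_assoc]),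
        show (⟨x⁻¹, hxi⟩ : R.V0) = (⟨x, hgen.le hx⟩)⁻¹ from rfl, map_inv, map_inv,
        ihx (hgen.le hx) hx']
  have hsV := R.sHat_le_V0 hs
  have hy := (mem_normalizer_iff.1 hfN s).1 hsV
  have hfsz : f * s * f⁻¹ = z * s :=
    (d.L.conj_cases hfE (R.sHat_le hs)).resolve_left fun h => hsf h.symm
  have h := hkey s (hgen.ge hsV) hsV hy
  rw [show (⟨f * s * f⁻¹, hy⟩ : R.V0) = zV * ⟨s, hsV⟩ from Subtype.ext hfsz, map_mul] at h
  exact hπz (mul_eq_right.1 h)

/-- Every element of `sHat` over the second orbit is conjugate to `z`. -/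
theorem orb1_zO [IsSimpleGroup G] (hG : ¬ IsMulCommutative G) (o : Outer z E P N e) :
    ∀ b ∈ lifts R orb1, b ∈ zO R := by
  classical
  haveI := R.finite_aut
  intro b hb
  by_contra hbz
  have hno : ∀ a ∈ lifts R orb1, a ∉ zO R := fun a ha haz =>
    hbz (over_saturated R (by simp) ha hb haz)
  set A := (zO R ∩ R.sHat) \ {z} with hA
  have hsub : A ⊆ lifts R orb0 := fun x hx =>
    (inner_part R x hx).resolve_right fun h => hno x h hx.1.1
  have hle : A.ncard ≤ 36 := by
    have := Set.ncard_le_ncard hsub (Set.toFinite _)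
    rw [card_over R (List.mem_cons_self ..) orb_nodup.1, orb_nodup.2.2.1] at this
    omega
  have ha : A.ncard ∈ [0, 36] := by
    have h := inner_card R
    rw [← hA] at h
    simp only [List.mem_cons, List.not_mem_nil, or_false] at h ⊢
    omega
  have hm0 : mK2.getD 0 ([] : List ℕ) ∈ (mQ : List (List ℕ)) := by decide +kernel
  obtain ⟨j, hj, hjA⟩ := List.getElem_of_mem hm0
  obtain ⟨w, hw⟩ := R.exists_of_mem_mQ j (q_len ▸ hj)
  rw [List.getD_eq_getElem (hn := hj), hjA] at hw
  set x₀ := d.ρ (R.word w) with hx₀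
  have hx1 : x₀ ≠ 1 := fun h => by
    rw [h, R.mat_one] at hw
    revert hw
    decide +kernel
  obtain ⟨k, hk⟩ := sixteen_dvd_part R o hx1
  have hk8 : k < 9 := by have := part_card_le R (x := x₀); omega
  have hsum : Nat.card (zO R) = 1 + A.ncard + 15 * (16 * k) := by
    rw [Nat.card_coe_set_eq, ← Set.ncard_inter_add_ncard_sdiff_eq_ncard (zO R) R.sHat (Set.toFinite _),
      hA, outer_card R hw, ← Set.ncard_sdiff_singleton_add_one
        (show z ∈ zO R ∩ R.sHat from ⟨z_mem_zO R, R.z_mem_sHat⟩) (Set.toFinite _), hk]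
    omega
  obtain ⟨hdvd, -⟩ := card_zO R o
  rw [hsum] at hdvd
  obtain ⟨ha0, hk0 | hk4⟩ := sizes_two _ ha k hk8 hdvd
  · obtain ⟨g, hg, hgz⟩ := exists_conj_V0 R hG o
    have h2 : ({g * z * g⁻¹, z} : Set G) ⊆ zO R := by
      rintro x (rfl | rfl)
      · exact ⟨hg, g, rfl⟩
      · exact z_mem_zO R
    have h3 := Set.ncard_le_ncard h2 (Set.toFinite _)
    rw [Set.ncard_pair hgz, ← Nat.card_coe_set_eq, hsum] at h3
    omega
  · refine card_ne R o (fun x hx hne => ?_) (by rw [hsum, ha0, hk4])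
    obtain ⟨h, hN, he⟩ := exists_mover_A0 R hx hne hw
    obtain ⟨⟨t, ht⟩⟩ : Nonempty (part R x₀) :=
      (Nat.card_pos_iff.1 (by rw [hk, hk4]; norm_num)).1
    exact ⟨_, he ▸ part_conj R ht hN⟩

end H82.J4Cx
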