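import Cfsg.Agent.H88.J4Fusion.Orbit
import Cfsg.Agent.H82.J4Cx.Cert

/-!
The image `Y` of `C_H(P)` on `E / Z(E)` is generated by the letters, and every element of `H` is a
block word times an element normalising the elementary subgroup of order sixteen.
-/

set_option autoImplicit false
set_option linter.unusedSectionVars false
set_option linter.style.haveILetI false

namespace H82.J4Cx

open Subgroup Cfsg.Agent.H69.J4

variable {G : Type*} [Group G] [Finite G]
variable {z : G} {E P N : Subgroup G} {d : Data z E P} (R : Real d)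
  {e : ↥(centralizer ({z} : Set G)) →* MulAut ↥Cfsg.Spor.M22}

theorem pi_len : bPi.length = 308 := by decide +kernel

theorem n_len : bN.length = 308 := by decide +kernel

/-- The group generated by the letters. -/
def genY (R : Real d) : Subgroup (MulAut (Bar E)) :=
  closure (Set.range fun i => d.ρ (R.g i))

theorem word_gen : ∀ w, d.ρ (R.word w) ∈ genY R
  | [] => by rw [show R.word [] = 1 from rfl, map_one]; exact one_mem _
  | i :: w => by
    rw [show R.word (i :: w) = R.g i * R.word w from rfl, map_mul]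
    exact mul_mem (subset_closure ⟨i, rfl⟩) (word_gen w)

theorem genY_le : genY R ≤ Outer.Y d := (closure_le _).2 (by
  rintro _ ⟨i, rfl⟩
  exact ⟨R.g i, R.memC i, rfl⟩)

theorem code_pow (x : MulAut (Bar E)) : ∀ n, R.code (x ^ n) = mpow (R.code x) n
  | 0 => by rw [pow_zero, R.mat_one]; rfl
  | n + 1 => by rw [pow_succ', R.mat_mul, code_pow x n]; rfl

theorem dvd_of_word {p : ℕ} [Fact p.Prime] {w : List ℕ}
    (h : mpow (evalM w) p = mI) (h1 : evalM w ≠ mI) : p ∣ Nat.card (genY R) := by
  have ho : orderOf (d.ρ (R.word w)) = p := orderOf_eq_prime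
    (R.mat_inj (by rw [code_pow, R.mat_word, h, R.mat_one]))
    (fun e => h1 (by rw [← R.mat_word, e, R.mat_one]))
  exact ho ▸ (genY R).orderOf_dvd_natCard (word_gen R w)

theorem genY_eq (o : Outer z E P N e) : genY R = Outer.Y d := by
  classical
  haveI := R.finite_aut
  haveI : Fact (Nat.Prime 11) := ⟨by norm_num⟩
  haveI : Fact (Nat.Prime 5) := ⟨by norm_num⟩
  haveI : Fact (Nat.Prime 7) := ⟨by norm_num⟩
  have h128 : 128 ∣ Nat.card (genY R) := by
    rw [← R.card_Q]
    refine Subgroup.card_dvd_of_le fun x hx => ?_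
    obtain ⟨i, hi, hix⟩ := List.getElem_of_mem (show R.code x ∈ mQ from hx)
    obtain ⟨w, hw⟩ := R.exists_of_mem_mQ i (q_len ▸ hi)
    rw [List.getD_eq_getElem (hn := hi), hix] at hw
    exact R.mat_inj hw ▸ word_gen R w
  have hord := ord_ok
  simp only [Bool.and_eq_true, beq_iff_eq, Bool.not_eq_true', beq_eq_false_iff_ne] at hord
  obtain ⟨⟨⟨⟨⟨e11, n11⟩, e5⟩, n5⟩, e7⟩, n7⟩ := hord
  have hB : evalM [0] = mB := by decide +kernel
  have hC : evalM [1] = mC := by decide +kernel
  have h11 : 11 ∣ Nat.card (genY R) := dvd_of_word R (w := [0]) (by rw [hB, e11]) (by rw [hB]; exact n11)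
  have h5 : 5 ∣ Nat.card (genY R) := dvd_of_word R (w := [1]) (by rw [hC, e5]) (by rw [hC]; exact n5)
  have h7 : 7 ∣ Nat.card (genY R) := dvd_of_word R (w := oWords.getD 0 []) e7 n7
  have h27 : 27 ∣ Nat.card (genY R) := by
    have hm := m27_ok
    simp only [Bool.and_eq_true, List.all_eq_true, List.contains_iff_mem] at hm
    obtain ⟨⟨⟨hmul, hone⟩, hlen⟩, hnd⟩ := hm
    let K : Subgroup (MulAut (Bar E)) := R.listSub m27 hone fun a ha b hb => hmul a ha b hb
    let W3 : List (List ℕ) := [[], [3], [3, 3]]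
    have hw : ∀ a ∈ m27, ∃ w, evalM w = a := by
      have happ : ∀ u v : List ℕ, evalM (u ++ v) = mm (evalM u) (evalM v) := fun u v => by
        rw [← R.mat_word, ← R.mat_word, ← R.mat_word, ← R.mat_mul, ← map_mul]
        congr 2
        induction u with
        | nil => simp [Real.word]
        | cons x u ih => simp [Real.word, ih, mul_assoc]
      have hW : evalM [3] = mW := by decide +kernel
      have h0 : ∃ w, evalM w = mI := ⟨[], rfl⟩
      have hm : ∀ {A B : List ℕ}, (∃ w, evalM w = A) → (∃ w, evalM w = B) →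
          ∃ w, evalM w = mm A B := by
        rintro _ _ ⟨u, rfl⟩ ⟨v, rfl⟩
        exact ⟨u ++ v, happ u v⟩
      intro a ha
      simp only [m27, List.mem_flatMap, List.mem_map] at ha
      obtain ⟨x, ⟨w, hw, y, hy, rfl⟩, c, hc, rfl⟩ := ha
      refine hm (hm ?_ ?_) ?_
      · simp only [List.mem_cons, List.not_mem_nil, or_false] at hw
        rcases hw with rfl | rfl | rfl
        exacts [h0, ⟨[3], hW⟩, hm ⟨[3], hW⟩ ⟨[3], hW⟩]
      · simp only [List.mem_cons, List.not_mem_nil, or_false] at hy
        rcases hy with rfl | rfl | rfl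
        exacts [h0, ⟨_, rfl⟩, hm ⟨_, rfl⟩ ⟨_, rfl⟩]
      · simp only [List.mem_cons, List.not_mem_nil, or_false] at hc
        rcases hc with rfl | rfl | rfl
        exacts [h0, ⟨_, rfl⟩, hm ⟨_, rfl⟩ ⟨_, rfl⟩]
    have hlen' : m27.length = 27 := Nat.eq_of_beq_eq_true hlen
    have hmemK : ∀ i : Fin 27, ∃ x ∈ K, R.code x = m27.getD i [] := fun i => by
      have hi : (i : ℕ) < m27.length := lt_of_lt_of_eq i.2 hlen'.symm
      obtain ⟨w, hw'⟩ := hw _ (List.getElem_mem hi)
      have hc : R.code (d.ρ (R.word w)) = m27.getD i [] := by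
        rw [R.mat_word, hw', List.getD_eq_getElem (hn := hi)]
      refine ⟨_, ?_, hc⟩
      show R.code _ ∈ m27
      rw [hc, List.getD_eq_getElem (hn := hi)]
      exact List.getElem_mem hi
    let f : Fin 27 → K := fun i => ⟨(hmemK i).choose, (hmemK i).choose_spec.1⟩
    have hf : Function.Bijective f := by
      refine ⟨fun i j e => ?_, fun x => ?_⟩
      · have h : m27.getD i [] = m27.getD j [] := by
          rw [← (hmemK i).choose_spec.2, ← (hmemK j).choose_spec.2]
          exact congrArg (fun q : K => R.code q.1) e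
        rcases lt_trichotomy i.1 j.1 with hl | hl | hl
        · have := hnd j (List.mem_range.2 j.2) i (List.mem_range.2 hl)
          simp only [h, beq_self_eq_true, Bool.not_true] at this
          exact absurd this (by decide)
        · exact Fin.ext hl
        · have := hnd i (List.mem_range.2 i.2) j (List.mem_range.2 hl)
          simp only [h, beq_self_eq_true, Bool.not_true] at this
          exact absurd this (by decide)
      · obtain ⟨i, hi, hix⟩ := List.getElem_of_mem (show R.code x.1 ∈ m27 from x.2)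
        refine ⟨⟨i, hlen' ▸ hi⟩, Subtype.ext (R.mat_inj ?_)⟩
        show R.code (hmemK _).choose = _
        rw [(hmemK _).choose_spec.2, List.getD_eq_getElem (hn := hi), hix]
    have hKle : K ≤ genY R := fun x hx => by
      obtain ⟨w, hw'⟩ := hw _ (show R.code x ∈ m27 from hx)
      rw [← R.mat_word w] at hw'
      exact R.mat_inj hw' ▸ word_gen R w
    have hK : Nat.card K = 27 := by rw [← Nat.card_congr (Equiv.ofBijective f hf)]; simp
    exact hK ▸ Subgroup.card_dvd_of_le hKle
  refine eq_of_le_of_card_ge (genY_le R) ?_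
  have hall : 128 * 11 * 5 * 7 * 27 ∣ Nat.card (genY R) :=
    Nat.Coprime.mul_dvd_of_dvd_of_dvd (by norm_num)
      (Nat.Coprime.mul_dvd_of_dvd_of_dvd (by norm_num)
        (Nat.Coprime.mul_dvd_of_dvd_of_dvd (by norm_num)
          (Nat.Coprime.mul_dvd_of_dvd_of_dvd (by norm_num) h128 h11) h5) h7) h27
  exact (Nat.le_of_dvd (by norm_num) (o.card_Y_dvd d)).trans
    (le_trans (by norm_num) (Nat.le_of_dvd Nat.card_pos hall))

/-- The coset representative of the block `k`. -/
def rep (R : Real d) (k : ℕ) : ↥(centralizer ({z} : Set G)) := R.word (bW.getD k [])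

theorem code_rep {k : ℕ} (hk : k < 77) : R.code (d.ρ (rep R k)) = bM.getD k [] := by
  have h := (List.all_eq_true.1 word_ok) k (List.mem_range.2 hk)
  simp only [Bool.and_eq_true, beq_iff_eq] at h
  rw [rep, R.mat_word, h.1.1]

theorem code_rep_inv {k : ℕ} (hk : k < 77) : R.code (d.ρ (rep R k))⁻¹ = bI.getD k [] := by
  have h := (List.all_eq_true.1 word_ok) k (List.mem_range.2 hk)
  simp only [Bool.and_eq_true, beq_iff_eq] at h
  obtain ⟨⟨-, hinv⟩, hid⟩ := h
  set x := d.ρ (rep R k)
  calc R.code x⁻¹ = R.code (1 * x⁻¹) := by rw [one_mul]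
    _ = mm (mm (bI.getD k []) (R.code x)) (R.code x⁻¹) := by
      rw [R.mat_mul, R.mat_one, code_rep R hk, hinv]
    _ = _ := by rw [mm_assoc, ← R.mat_mul, mul_inv_cancel, R.mat_one, hid]

theorem rep_zero : rep R 0 = 1 := by rw [rep, first_ok]; rfl

/-- Left multiplication by a letter permutes the blocks up to the normaliser. -/
theorem exists_step (i : ℕ) {k : ℕ} (hk : k < 77) :
    ∃ k' < 77, ∃ n : ↥(centralizer ({z} : Set G)), R.normA0 n ∧
      R.g i * rep R k = rep R k' * n := by
  have hl : letter i = letter (min i 3) := by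
    match i with
    | 0 => rfl
    | 1 => rfl
    | 2 => rfl
    | n + 3 => rw [show min (n + 3) 3 = 3 by omega]; rfl
  obtain ⟨g, hg⟩ : ∃ g, g = min i 3 := ⟨_, rfl⟩
  rw [← hg] at hl
  have hj : g * 77 + k < 308 := by omega
  have hpl' := pi_len
  have hnl' := n_len
  set j := g * 77 + k with hjd
  set k' := bPi.getD j 0 with hk'
  have hk'77 : k' < 77 := by
    rw [hk', List.getD_eq_getElem (hn := hpl' ▸ hj)]
    exact Nat.blt_eq.mp ((List.all_eq_true.1 pi_ok) _ (List.getElem_mem _))
  set n := (rep R k')⁻¹ * (R.g i * rep R k) with hn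
  refine ⟨k', hk'77, n, R.normA0_of_maps fun x hx => ?_, by rw [hn, mul_inv_cancel_left]⟩
  have hcode : R.code (d.ρ n) = bN.getD j [] := by
    have h := (List.all_eq_true.1 schreier_ok) j (List.mem_range.2 hj)
    rw [beq_iff_eq] at h
    rw [h, hn, map_mul, map_mul, map_inv, R.mat_mul, R.mat_mul, code_rep_inv R hk'77, R.mat_letter,
      code_rep R hk, hl, show j / 77 = g by omega, show j % 77 = k by omega]
  rcases List.mem_cons.1 (show R.code x ∈ mI :: mK2 from hx) with hx1 | hx1
  · rw [R.mat_inj (hx1.trans R.mat_one.symm)]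
    simp [one_mem]
  · have h := (List.all_eq_true.1 norm_ok) _
      (show bN.getD j [] ∈ bN by rw [List.getD_eq_getElem (hn := hnl' ▸ hj)]; exact List.getElem_mem _)
    rw [List.all_eq_true, k2_eq] at h
    obtain ⟨m', hm', he⟩ := List.any_eq_true.1 (h _ hx1)
    rw [beq_iff_eq, ← hcode, ← R.mat_mul] at he
    have hQ : m' ∈ mQ := by simpa using (List.all_eq_true.1 k2_sub) _ hm'
    obtain ⟨q, hq, hqA⟩ := List.getElem_of_mem hQ
    obtain ⟨v, hv⟩ := R.exists_of_mem_mQ q (q_len ▸ hq)
    rw [List.getD_eq_getElem (hn := hq), hqA] at hv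
    rw [← hv, ← R.mat_mul] at he
    rw [R.mat_inj he, mul_inv_cancel_right]
    show R.code _ ∈ mI :: mK2
    rw [hv]
    exact List.mem_cons_of_mem _ hm'

end H82.J4Cx
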