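import Cfsg.Agent.H82.J4Cx.Blocks
import Cfsg.Agent.H82.J4Cx.Count

/-!
In a simple group of `J₄` type, if `x, t` lie in an elementary abelian subgroup `V` of order `2 ^ 11`,
`x` is conjugate to `z` and `t` is not, then `C(x) ⊓ C(t)` normalises `V`.
-/

set_option autoImplicit false
set_option linter.unusedSectionVars false
set_option linter.style.haveILetI false

namespace H82.J4Cx

open Subgroup Cfsg.Agent.H69.J4 H88.J4Fusion

variable {G : Type*} [Group G] [Finite G]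
variable {z : G} {E P N : Subgroup G} {d : Data z E P} (R : Real d)
  {e : ↥(centralizer ({z} : Set G)) →* MulAut ↥Cfsg.Spor.M22}

/-- The placed form. -/
theorem cent_le_NV [IsSimpleGroup G] (hG : ¬ IsMulCommutative G) (o : Outer z E P N e) {t h : G}
    (ht : t ∈ R.V0) (ht1 : t ≠ 1) (htz : ¬ IsConj z t)
    (hh : h ∈ centralizer ({z} : Set G)) (hc : h * t = t * h) : h ∈ NV R := by
  have hzO : ∀ {a : G}, a ∈ lifts R orb1 → ∀ n : G, n * t * n⁻¹ ≠ a := fun {a} ha n hn => by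
    obtain ⟨-, g, hg⟩ := orb1_zO R hG o a ha
    exact htz (isConj_iff.2 ⟨n⁻¹ * g, by
      rw [← hn] at hg
      calc n⁻¹ * g * z * (n⁻¹ * g)⁻¹ = n⁻¹ * (g * z * g⁻¹) * n := by group
        _ = t := by rw [hg]; group⟩)
  by_cases htE : t ∈ E
  · obtain ⟨v, hv, hvt⟩ := (R.fixed_A0 _).1 (R.V0_E ht htE).2
    have h' := (List.all_eq_true.1 orb_cover) v hv
    simp only [Bool.or_eq_true, List.contains_iff_mem] at h'
    rcases h' with (h' | h') | h'
    · exfalso
      rw [Nat.eq_of_beq_eq_true h', R.φ_zero] at hvt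
      rcases (d.mk_eq_one).1 hvt.symm with e1 | e1
      · exact ht1 e1
      · change t = z at e1
        exact htz (e1 ▸ IsConj.refl z)
    · refine cent_orb0 R o htE h' hvt (fun n _ w hw he => ?_) hh hc
      refine hzO (a := (n : G) * t * (n : G)⁻¹) ⟨d.L.conj_mem n.2 htE, w, hw, ?_⟩ n rfl
      rw [← he, hvt, d.ρ_mk]
    · exact absurd (show (1 : G) * t * 1⁻¹ = t by simp) (hzO ⟨htE, v, h', hvt⟩ 1)
  · exact cent_outside R o ht htE hh hc

/-- The centraliser of two elements of `V`, one of them conjugate to `z`, the other not. -/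
theorem inf_le_normalizer [IsSimpleGroup G] (hG : ¬ IsMulCommutative G)
    (hJ : Cfsg.IsOfJankoFourTypeWith z P) {V : Subgroup G}
    (hV : Cfsg.IsElementaryAbelian 2 V) (hcard : Nat.card V = 2 ^ 11) {x t : G} (hx : x ∈ V)
    (ht : t ∈ V) (ht1 : t ≠ 1) (hxz : IsConj z x) (htz : ¬ IsConj z t) :
    centralizer ({x} : Set G) ⊓ centralizer ({t} : Set G) ≤ normalizer (V : Set G) := by
  haveI : Fact (Nat.Prime 2) := ⟨Nat.prime_two⟩
  have d := data_of_type hJ
  obtain ⟨N, e, o⟩ := outer_of_type hJ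
  obtain ⟨R⟩ := exists_real o d
  obtain ⟨g, hg⟩ := isConj_iff.1 hxz
  have hcomm : ∀ a ∈ V, ∀ b ∈ V, a * b = b * a := fun a ha b hb =>
    congrArg Subtype.val (hV.1.1.1 ⟨a, ha⟩ ⟨b, hb⟩)
  set V1 : Subgroup G := V.map (MulAut.conj g⁻¹).toMonoidHom with hV1
  have hV1H : V1 ≤ centralizer ({z} : Set G) := by
    rintro _ ⟨a, ha, rfl⟩
    refine mem_centralizer_singleton_iff.2 ?_
    show g⁻¹ * a * g⁻¹⁻¹ * z = z * (g⁻¹ * a * g⁻¹⁻¹)
    calc g⁻¹ * a * g⁻¹⁻¹ * z = g⁻¹ * (a * (g * z * g⁻¹)) * g := by group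
      _ = g⁻¹ * ((g * z * g⁻¹) * a) * g := by rw [hg, hcomm a ha _ hx]
      _ = _ := by group
  have hV1c : Nat.card V1 = 2 ^ 11 := by
    rw [hV1, ← Nat.card_congr (V.equivMapOfInjective _ (MulAut.conj g⁻¹).injective).toEquiv, hcard]
  have hp : IsPGroup 2 (V1.subgroupOf (centralizer ({z} : Set G))) :=
    IsPGroup.of_card (n := 11) (by rw [Nat.card_congr (subgroupOfEquivOfLe hV1H).toEquiv, hV1c])
  obtain ⟨S, Q, hQS, hQ⟩ := exists_sylow R o
  obtain ⟨S1, hS1⟩ := hp.exists_le_sylow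
  obtain ⟨c, hc⟩ := MulAction.exists_smul_eq ↥(centralizer ({z} : Set G)) S1 S
  set k : G := (c : G) * g⁻¹ with hk
  have hkV : V.map (MulAut.conj k).toMonoidHom = R.V0 := by
    refine R.unique o hQ ?_ (elementary_map k hV) ?_
    · rintro _ ⟨a, ha, rfl⟩
      show k * a * k⁻¹ ∈ (Q : Subgroup G)
      have h1 : g⁻¹ * a * g⁻¹⁻¹ ∈ V1 := ⟨a, ha, rfl⟩
      rw [hQS]
      refine ⟨c * ⟨_, hV1H h1⟩ * c⁻¹, ?_, by simp [hk, mul_assoc]⟩
      have := Subgroup.smul_mem_pointwise_smul _ (MulAut.conj c) _ (hS1 (mem_subgroupOf.2 h1) :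
        (⟨_, hV1H h1⟩ : ↥(centralizer ({z} : Set G))) ∈ (S1 : Subgroup ↥(centralizer ({z} : Set G))))
      rw [← hc]
      exact this
    · rw [← hcard]
      exact Nat.card_congr (V.equivMapOfInjective _ (MulAut.conj k).injective).toEquiv.symm
  have hmem : ∀ a, a ∈ V ↔ k * a * k⁻¹ ∈ R.V0 := fun a => by
    rw [← hkV]
    refine ⟨fun ha => ⟨a, ha, rfl⟩, ?_⟩
    rintro ⟨b, hb, hab⟩
    rwa [← (MulAut.conj k).injective (hab : MulAut.conj k b = MulAut.conj k a)]
  have hkx : k * x * k⁻¹ = z := by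
    have hcz : (c : G) * z = z * c := mem_centralizer_singleton_iff.1 c.2
    calc k * x * k⁻¹ = (c : G) * z * (c : G)⁻¹ := by rw [hk, ← hg]; group
      _ = z := by rw [hcz, mul_inv_cancel_right]
  rintro y ⟨hyx, hyt⟩
  have hyx' : y * x = x * y := mem_centralizer_singleton_iff.1 hyx
  have hyt' : y * t = t * y := mem_centralizer_singleton_iff.1 hyt
  have hn : k * y * k⁻¹ ∈ NV R := by
    refine cent_le_NV R hG o ((hmem t).1 ht) (fun h => ht1 (conj_eq_one_iff.1 h))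
      (fun h => htz (h.trans (isConj_iff.2 ⟨k⁻¹, by group⟩))) ?_ ?_
    · refine mem_centralizer_singleton_iff.2 ?_
      rw [← hkx]
      calc k * y * k⁻¹ * (k * x * k⁻¹) = k * (y * x) * k⁻¹ := by group
        _ = _ := by rw [hyx']; group
    · calc k * y * k⁻¹ * (k * t * k⁻¹) = k * (y * t) * k⁻¹ := by group
        _ = _ := by rw [hyt']; group
  refine mem_normalizer_iff.2 fun a => ?_
  rw [hmem, hmem, mem_normalizer_iff.1 hn (k * a * k⁻¹)]
  constructor <;> intro h <;> convert h using 1 <;> group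

end H82.J4Cx
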